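import Groth.Agent.PicOneLib.Hull
import Groth.Agent.MiscFlat6.CounitIdeal
import Groth.Agent.CohExtLib.Subobj
import Groth.Agent.GenFlatStrat.FGExtend

/-!
# Bundle hulls, extensions across points, ideals of submodules
-/

set_option autoImplicit false
set_option linter.style.haveILetI false
set_option linter.unusedSectionVars false
set_option backward.isDefEq.respectTransparency false
set_option backward.isDefEq.respectTransparency.types false
universe u

open CategoryTheory CategoryTheory.Limits AlgebraicGeometry TopologicalSpace Opposite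
open CohCmpLib (stk)

noncomputable section

namespace SerreExtLib

section General

variable {X : Scheme.{u}}

/-- The ideal sheaf of a quasi-coherent submodule of the structure module. -/
theorem exists_ideal_of_mono {Q : X.Modules} [Coh.IsQCoh Q] [IsLocallyNoetherian X]
    (ι : Q ⟶ Coh.structureModule X) [Mono ι] :
    ∃ (I : X.IdealSheafData) (θ : Q ≅ ClSub.idealMod I), θ.hom ≫ ClSub.idealModι I = ι := by
  let I := MiscFlat6.idealOfSub ι
  haveI : Coh.IsQCoh (ClSub.idealMod I) := (SurfExtLib.isCoh_idealMod I).1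
  haveI : Mono (ClSub.idealModι I) := inferInstanceAs (Mono (kernel.ι _))
  have h : Subobject.mk ι = Subobject.mk (ClSub.idealModι I) := by
    refine CohExtLib.mk_eq_mk ι (ClSub.idealModι I) (C := Set.univ)
      (fun x => ?_) fun V _ => le_antisymm ?_ ?_
    · obtain ⟨W, hW, hx, -⟩ := exists_isAffineOpen_mem_and_subset (show x ∈ (⊤ : X.Opens) from trivial)
      exact ⟨⟨W, hW⟩, trivial, hx⟩
    · rintro _ ⟨a, rfl⟩
      obtain ⟨s, hs⟩ := GenFlatStrat.exists_idealMod_section I V (OmegaSh.fnSect X V.1 (ι.app V.1 a)) ⟨a, rfl⟩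
      exact ⟨s, hs⟩
    · rintro _ ⟨s, rfl⟩
      obtain ⟨a, ha⟩ := GenFlatStrat.idealModι_mem I V s
      exact ⟨a, ha⟩
  exact ⟨I, Subobject.isoOfMkEqMk _ _ h, Subobject.ofMkLEMk_comp _⟩

/-- A map of ideal modules over the structure module is an inclusion of ideals. -/
theorem le_of_hom {A B : X.IdealSheafData} (φ : ClSub.idealMod A ⟶ ClSub.idealMod B)
    (h : φ ≫ ClSub.idealModι B = ClSub.idealModι A) : A ≤ B := fun V r hr => by
  obtain ⟨s, hs⟩ := GenFlatStrat.exists_idealMod_section A V r hr
  rw [← hs, ← h]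
  exact GenFlatStrat.idealModι_mem B V (φ.app V.1 s)

/-- An extension of torsion free modules is torsion free. -/
theorem torsionFree_of_ses {S : ShortComplex X.Modules} (hS : S.ShortExact) (h1 : TorSh.IsTorsionFree S.X₁)
    (h3 : TorSh.IsTorsionFree S.X₃) : TorSh.IsTorsionFree S.X₂ := fun x => by
  haveI := h1 x
  haveI := h3 x
  let F := DerSch.stalkFunctor X x
  have hT := hS.map_of_exact F
  let f := (F.map S.f).hom
  let g := (F.map S.g).hom
  have hf : Function.Injective f := (ModuleCat.mono_iff_injective _).mp hT.mono_f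
  have hex := (ShortComplex.moduleCat_exact_iff _).1 hT.exact
  refine ⟨fun r hr a b hab => ?_⟩
  have hg : g (a - b) = 0 := by
    refine hr.isSMulRegular (M := S.X₃.presheaf.stalk x) ?_
    show r • g (a - b) = r • 0
    rw [smul_zero, ← map_smul, smul_sub, show r • a = r • b from hab, sub_self, map_zero]
  obtain ⟨c, hc⟩ := hex (a - b) hg
  have hc0 : c = 0 := by
    refine hr.isSMulRegular (M := S.X₁.presheaf.stalk x) (hf ?_)
    show f (r • c) = f (r • 0)
    rw [smul_zero, map_zero, map_smul, show f c = a - b from hc, smul_sub,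
      show r • a = r • b from hab, sub_self]
  rw [hc0, map_zero] at hc
  exact sub_eq_zero.1 hc.symm

end General

variable (k : Type u) [Field k] {X : Scheme.{u}} [X.Over (Spec (CommRingCat.of k))] [IsIntegral X]
  [IsNoetherian X] [SmoothOfRelativeDimension 2 (X ↘ Spec (CommRingCat.of k))]
  (hX : topologicalKrullDim X = 2)

include k hX

/-- A torsion free coherent module has a locally free hull with finite cokernel. -/
theorem exists_bundle_hull {N : X.Modules} (hN : Coh.IsCoh N) (htf : TorSh.IsTorsionFree N) :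
    ∃ (J : X.Modules) (j : N ⟶ J), FlatMod.IsFinLocFree J ∧ Coh.IsCoh J ∧ Mono j ∧
      topologicalKrullDim (CohB1.support (cokernel j)) ≤ 0 := by
  haveI : Smooth (X ↘ Spec (CommRingCat.of k)) := SmoothOfRelativeDimension.smooth 2 _
  have hn : Pi1.IsNormalScheme X := HurwitzLib.isNormalScheme_of_smooth (k := k)
  haveI : ∀ x : X, IsDomain (X.presheaf.stalk x) := fun x => (hn x).1
  let J := RefHull.ddual N
  have hJ : Coh.IsCoh J := RefHullLib.isCoh_dual (RefHullLib.isCoh_dual hN)
  haveI : Coh.IsQCoh J := hJ.1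
  have hfree : ∀ x : X, Module.Free (X.presheaf.stalk x) (J.presheaf.stalk x) := fun x => by
    haveI := SurfExtLib.regular_stalk (k := k) x
    haveI : Module.Finite (X.presheaf.stalk x) (J.presheaf.stalk x) := SurfExtLib.finite_stk hJ x
    haveI := RefHullLib.reflexive_stalk_ddual hN x
    exact RefHullLib.free_of_isReflexive_of_dim_le_two _
      (lt_of_le_of_lt (PicOneLib.dim_stalk_le k hX x) (by decide))
  have hJf : FlatMod.IsFinLocFree J := MiscFlat6.isFP_and_free_iff.1 ⟨QCohLib.isFP_of_isCoh J hJ, hfree⟩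
  have hstk : ∀ (y : X) (w : N.presheaf.stalk y),
      FLI.sMap (RefHull.bidualMap N) y w = RefHull.stalkMapₗ (RefHull.bidualMap N) y w := fun y w => by
    obtain ⟨V, hx, s, rfl⟩ := TopCat.Presheaf.exists_germ_eq N.presheaf (x := y) w
    exact (DerSch.stalkFunctor_map_germ _ (RefHull.bidualMap N) V hx s).trans
      (RefHull.stalkMapₗ_germ (RefHull.bidualMap N) _ hx s).symm
  have hb := RefHullLib.bijective_bidual_generic hn hN
  haveI := PicOneLib.mono_of_generic hN htf hJ (RefHull.bidualMap N)
    ((congrArg Function.Injective (funext (hstk _))).mpr hb.1)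
  refine ⟨J, RefHull.bidualMap N, hJf, hJ, inferInstance, ?_⟩
  have hC := QCohLib.isCoh_cokernel (RefHull.bidualMap N) hN.1 hJ
  refine SurfExtLib.dim_le_zero_of_closed_points (QCohLib.isClosed_support _ hC.2) fun y hy => ?_
  have h2 : ¬ ringKrullDim (X.presheaf.stalk y) ≤ 1 := fun h1 => by
    refine DevissLib.notMem_support_cokernel (RefHull.bidualMap N) y (fun t => ?_) hy
    obtain ⟨w, hw⟩ := RefHullLib.surjective_bidual_stalk_of_dim_le_one hn hN h1 t
    exact ⟨w, (hstk y w).trans hw⟩
  have h3 : ringKrullDim (X.presheaf.stalk y) = 2 := by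
    haveI := SurfExtLib.regular_stalk (k := k) y
    obtain ⟨d, hd⟩ : ∃ d : ℕ, ringKrullDim (X.presheaf.stalk y) = d :=
      ⟨_, ((isRegularLocalRing_iff (X.presheaf.stalk y)).1 inferInstance).symm⟩
    have hle := PicOneLib.dim_stalk_le k hX y
    rw [hd] at h2 hle ⊢
    have e1 : ¬ d ≤ 1 := fun h => h2 (by exact_mod_cast h)
    have e2 : d ≤ 2 := by exact_mod_cast hle
    exact_mod_cast (show d = 2 by omega)
  exact isClosed_iff_clusterPt.2 (fun z hz => by
    have hspec : y ⤳ z := specializes_iff_mem_closure.2 (mem_closure_iff_clusterPt.2 hz)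
    rw [Set.mem_singleton_iff]
    exact (SurfExtLib.eq_of_specializes hX.le h3 hspec).symm)

/-- A bundle has no proper torsion free extension across finitely many points. -/
theorem isIso_of_finite_coker {A B : X.Modules} (hA : Coh.IsCoh A) (hAf : FlatMod.IsFinLocFree A)
    (hB : Coh.IsCoh B) (hBtf : TorSh.IsTorsionFree B) (f : A ⟶ B) [Mono f]
    (hf : topologicalKrullDim (CohB1.support (cokernel f)) ≤ 0) : IsIso f := by
  obtain ⟨r, hr⟩ := PicOneLib.exists_extend_finite k hX hA hB f hf hAf (𝟙 A)
  have h0 : f ≫ (𝟙 B - r ≫ f) = 0 := by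
    rw [Preadditive.comp_sub, Category.comp_id, ← Category.assoc, hr, Category.id_comp, sub_self]
  haveI := hB.1
  have hC := QCohLib.isCoh_cokernel f hA.1 hB
  haveI : Subsingleton (stk (cokernel f) (genericPoint X)) := SurfExtLib.subsingleton_stk fun hη => by
    have hcl := QCohLib.isClosed_support _ hC.2
    have hcp := (CurvLib.finite_isClosed_of_dim_le_zero hcl hf).2 _ hη
    have huniv : (Set.univ : Set X) ⊆ {genericPoint X} := by
      rw [← hcp.closure_eq, (genericPoint_spec X).def]
    haveI : Subsingleton X := ⟨fun a b => (huniv (Set.mem_univ a)).trans (huniv (Set.mem_univ b)).symm⟩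
    have := topologicalKrullDim_zero_of_discreteTopology X
    rw [hX] at this
    norm_num at this
  have h1 : cokernel.desc f (𝟙 B - r ≫ f) h0 = 0 := PicOneLib.eq_zero_of_subsingleton hBtf _ ‹_›
  have h2 : r ≫ f = 𝟙 B := by
    have := cokernel.π_desc f (𝟙 B - r ≫ f) h0
    rw [h1, comp_zero] at this
    exact (sub_eq_zero.1 this.symm).symm
  exact ⟨⟨r, hr, h2⟩⟩

end SerreExtLib

end
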